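import Mathlib
import Groth.Agent.CAlgReg.Basic

/-!
# Jacobian criterion: formally smooth quotient of a regular local ring iff regular
-/

set_option autoImplicit false
universe u

open TensorProduct IsLocalRing KaehlerDifferential

namespace Groth.Agent.CAlgJac

/-- If the residue field is formally smooth over the base, `m/m² → K ⊗ Ω` is injective. -/
theorem kerCotangentToTensor_injective (k R K : Type u) [CommRing k] [CommRing R] [CommRing K]
    [Algebra k R] [Algebra k K] [Algebra R K] [IsScalarTower k R K]
    [Algebra.FormallySmooth k K] (hs : Function.Surjective (algebraMap R K)) :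
    Function.Injective (kerCotangentToTensor k R K) := by
  let f : (R ⧸ RingHom.ker (algebraMap R K) ^ 2) →ₐ[k] K :=
    (IsScalarTower.toAlgHom k R K).kerSquareLift
  have hf : Function.Surjective f := fun y => by
    obtain ⟨x, rfl⟩ := hs y
    exact ⟨Ideal.Quotient.mk _ x, rfl⟩
  have hnil : IsNilpotent (RingHom.ker f.toRingHom) := ⟨2, by
    have : RingHom.ker f.toRingHom ^ 2 = ⊥ := by
      change RingHom.ker (IsScalarTower.toAlgHom k R K).kerSquareLift.toRingHom ^ 2 = ⊥
      rw [AlgHom.ker_kerSquareLift]
      exact Ideal.cotangentIdeal_square _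
    exact this⟩
  let g := Algebra.FormallySmooth.liftOfSurjective (AlgHom.id k K) f hf hnil
  have hg : f.comp g = AlgHom.id k K :=
    AlgHom.ext fun x => Algebra.FormallySmooth.liftOfSurjective_apply _ f hf hnil x
  obtain ⟨l, hl⟩ := (retractionKerCotangentToTensorEquivSection (R := k) hs).symm ⟨g, hg⟩
  exact Function.LeftInverse.injective (g := l) fun x => LinearMap.congr_fun hl x

variable {P : Type u} [CommRing P]

/-- If the elements of `s` have independent cotangent classes, any vanishing combination in `m²`
has coefficients in `m`. -/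
theorem coeff_mem [IsLocalRing P] (s : Finset (maximalIdeal P))
    (hs : LinearIndepOn (ResidueField P) (maximalIdeal P).toCotangent (s : Set (maximalIdeal P)))
    (a : maximalIdeal P → P) (h : ∑ f ∈ s, a f * (f : P) ∈ maximalIdeal P ^ 2) :
    ∀ f ∈ s, a f ∈ maximalIdeal P := by
  intro f hf
  have h0 : (maximalIdeal P).toCotangent (∑ f ∈ s, a f • f) = 0 := by
    rw [Ideal.toCotangent_eq_zero]
    simpa using h
  rw [map_sum] at h0
  have := (linearIndepOn_iff'.1 hs) s (fun f => residue P (a f)) subset_rfl (by
    rw [← h0]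
    refine Finset.sum_congr rfl fun x _ => ?_
    rw [map_smul]
    exact IsScalarTower.algebraMap_smul (ResidueField P) (a x) _) f hf
  exact (residue_eq_zero_iff _).1 this

/-- For a proper ideal `I` of a regular local ring `P`: `P/I` is regular iff `I ∩ m² ⊆ m I`. -/
theorem isRegularLocalRing_quotient_iff [IsRegularLocalRing P] (I : Ideal P)
    (hI : I ≤ maximalIdeal P) :
    IsRegularLocalRing (P ⧸ I) ↔ I ⊓ maximalIdeal P ^ 2 ≤ maximalIdeal P * I := by
  classical
  obtain ⟨d, hd⟩ := Groth.Agent.CAlgReg.exists_dim (R := P)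
  have hrank := Groth.Agent.CAlgReg.spanFinrank_eq_of_dim hd
  haveI : Nontrivial (P ⧸ I) := Ideal.Quotient.nontrivial_iff.2
    (fun h => (maximalIdeal.isMaximal P).ne_top (top_le_iff.1 (h ▸ hI)))
  haveI : IsLocalRing (P ⧸ I) := .of_surjective' _ Ideal.Quotient.mk_surjective
  -- independent elements of `I` spanning its image in the cotangent space
  let W : Set (maximalIdeal P) := {x | (x : P) ∈ I}
  obtain ⟨v, hvW, hspan, hvind⟩ := exists_linearIndependent (ResidueField P)
    ((maximalIdeal P).toCotangent '' W)
  have hvfin : v.Finite := hvind.setFinite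
  choose g hgW hg using fun x : v => hvW x.2
  haveI := hvfin.fintype
  let s : Finset (maximalIdeal P) := Finset.univ.image g
  have hginj : Function.Injective g := fun a b h => Subtype.ext (by rw [← hg a, ← hg b, h])
  have hs : LinearIndepOn (ResidueField P) (maximalIdeal P).toCotangent
      (s : Set (maximalIdeal P)) := by
    rw [Finset.coe_image, Finset.coe_univ, Set.image_univ, linearIndepOn_range_iff hginj]
    convert hvind
    exact funext fun x => hg x
  have hsI : ∀ f ∈ s, (f : P) ∈ I := by
    intro f hf
    obtain ⟨x, -, rfl⟩ := Finset.mem_image.1 hf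
    exact hgW x
  let J : Ideal P := Ideal.span ((↑) '' (s : Set (maximalIdeal P)))
  have hJI : J ≤ I := Ideal.span_le.2 (by rintro _ ⟨f, hf, rfl⟩; exact hsI f hf)
  have hIJ : I ≤ J ⊔ maximalIdeal P ^ 2 := by
    intro x hx
    have h1 : (maximalIdeal P).toCotangent ⟨x, hI hx⟩ ∈
        Submodule.span (ResidueField P) (((maximalIdeal P).toCotangent) '' (s : Set (maximalIdeal P))) := by
      have : (maximalIdeal P).toCotangent '' (s : Set (maximalIdeal P)) = v := by
        ext y
        simp only [s, Finset.coe_image, Finset.coe_univ, Set.image_univ, Set.mem_image,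
          Set.mem_range]
        exact ⟨fun ⟨_, ⟨a, rfl⟩, hy⟩ => hy ▸ (hg a).symm ▸ a.2,
          fun hy => ⟨_, ⟨⟨y, hy⟩, rfl⟩, hg ⟨y, hy⟩⟩⟩
      rw [this, hspan]
      exact Submodule.subset_span ⟨_, hx, rfl⟩
    have h2 : (maximalIdeal P).toCotangent ⟨x, hI hx⟩ ∈
        Submodule.span P ((maximalIdeal P).toCotangent '' (s : Set (maximalIdeal P))) := by
      have hsurj : Function.Surjective (algebraMap P (ResidueField P)) := residue_surjective
      rw [← Submodule.restrictScalars_span P (ResidueField P) hsurj]
      exact h1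
    rw [← Submodule.map_span, Submodule.mem_map] at h2
    obtain ⟨y, hy, hxy⟩ := h2
    have h3 : x - (y : P) ∈ maximalIdeal P ^ 2 := by
      have := (Ideal.toCotangent_eq (I := maximalIdeal P)).1 hxy.symm
      exact this
    have h4 : (y : P) ∈ J := by
      have := Submodule.apply_mem_span_image_of_mem_span (maximalIdeal P).subtype hy
      exact this
    exact Submodule.mem_sup.2 ⟨_, h4, _, h3, by ring⟩
  constructor
  · intro hreg
    obtain ⟨t, ht, hcard⟩ := Groth.Agent.CAlgReg.exists_extend s hs
    let s' : Finset P := s.image (↑)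
    have hs'c : s'.card = s.card :=
      Finset.card_image_of_injective _ Subtype.val_injective
    have hst : Ideal.span (↑s' ∪ ↑t : Set P) = maximalIdeal P := by
      rw [Finset.coe_image]; exact ht
    obtain ⟨hregJ, hdimJ, hsum⟩ := Groth.Agent.CAlgReg.quotient_span hd s' t hst (by omega)
    have hJ' : Ideal.span (s' : Set P) = J := by rw [Finset.coe_image]
    rw [hJ'] at hregJ hdimJ
    -- the maximal ideal of `P/I` needs at least `d - |s|` generators
    have hge : t.card ≤ (maximalIdeal (P ⧸ I)).spanFinrank := by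
      obtain ⟨U, hU⟩ := Submodule.FG.exists_span_set_encard_eq_spanFinrank
        (p := maximalIdeal (P ⧸ I)) (IsNoetherian.noetherian _)
      have hUfin : U.Finite := Set.finite_of_encard_eq_coe hU.1
      choose w hw using fun u : P ⧸ I => Ideal.Quotient.mk_surjective u
      let u' : Finset P := hUfin.toFinset.image w
      have hu' : u'.card ≤ (maximalIdeal (P ⧸ I)).spanFinrank := by
        refine Finset.card_image_le.trans ?_
        have := hU.1
        rw [hUfin.encard_eq_coe_toFinset_card] at this
        exact_mod_cast this.le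
      have hm : maximalIdeal P ≤ Ideal.span (↑s' ∪ ↑u' : Set P) ⊔ maximalIdeal P • maximalIdeal P := by
        intro x hx
        have hx' : Ideal.Quotient.mk I x ∈ maximalIdeal (P ⧸ I) := by
          rw [mem_maximalIdeal, mem_nonunits_iff]
          intro hu
          haveI : IsLocalHom (Ideal.Quotient.mk I) :=
            .of_surjective _ Ideal.Quotient.mk_surjective
          exact (mem_maximalIdeal _).1 hx (isUnit_of_map_unit (Ideal.Quotient.mk I) x hu)
        have himg : maximalIdeal (P ⧸ I) = (Ideal.span (u' : Set P)).map (Ideal.Quotient.mk I) := by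
          rw [Ideal.map_span, ← hU.2]
          congr 1
          ext z
          simp [u', hw]
        rw [himg, Ideal.mem_map_iff_of_surjective _ Ideal.Quotient.mk_surjective] at hx'
        obtain ⟨y, hy, hxy⟩ := hx'
        have hxyI : x - y ∈ I := Ideal.Quotient.eq.1 hxy.symm
        obtain ⟨a, ha, b, hb, hab⟩ := Submodule.mem_sup.1 (hIJ hxyI)
        refine Submodule.mem_sup.2 ⟨y + a, ?_, b, ?_, by linear_combination hab⟩
        · refine add_mem (Ideal.span_mono Set.subset_union_right hy) ?_
          rw [← hJ'] at ha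
          exact Ideal.span_mono Set.subset_union_left ha
        · rwa [smul_eq_mul, ← pow_two]
      have hm2 : maximalIdeal P ≤ Ideal.span (↑s' ∪ ↑u' : Set P) :=
        Submodule.le_of_le_smul_of_le_jacobson_bot (IsNoetherian.noetherian _)
          (le_of_eq (jacobson_eq_maximalIdeal ⊥ bot_ne_top).symm) hm
      have hle : Ideal.span (↑s' ∪ ↑u' : Set P) ≤ maximalIdeal P := by
        refine le_maximalIdeal fun htop => ?_
        have h1 : Ideal.span (u' : Set P) ≤ maximalIdeal P := by
          refine Ideal.span_le.2 fun z hz => ?_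
          obtain ⟨q, hq, rfl⟩ := Finset.mem_image.1 hz
          have : Ideal.Quotient.mk I (w q) ∈ maximalIdeal (P ⧸ I) := by
            rw [hw, ← hU.2]; exact Ideal.subset_span (hUfin.mem_toFinset.1 hq)
          by_contra hc
          exact (mem_maximalIdeal _).1 this ((notMem_maximalIdeal.1 hc).map _)
        have h2 : Ideal.span (s' : Set P) ≤ maximalIdeal P := hJ' ▸ hJI.trans hI
        rw [Ideal.span_union] at htop
        exact (maximalIdeal.isMaximal P).ne_top (top_le_iff.1 (htop ▸ sup_le h2 h1))
      obtain ⟨-, -, hsum'⟩ := Groth.Agent.CAlgReg.quotient_span hd s' t hst (by omega)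
      have hcge : d ≤ (s' ∪ u').card := by
        rw [← Set.ncard_coe_finset]
        exact Groth.Agent.CAlgReg.card_ge_of_span_eq hd (s' ∪ u').finite_toSet
          (by rw [Finset.coe_union]; exact le_antisymm hle hm2)
      have := Finset.card_union_le s' u'
      omega
    have hdI : ringKrullDim (P ⧸ I) = ((maximalIdeal (P ⧸ I)).spanFinrank : WithBot ℕ∞) := by
      rw [(isRegularLocalRing_iff _).1 hreg]
    have hJeq : J = I := by
      by_contra hne
      obtain ⟨x, hxI, hxJ⟩ := SetLike.not_le_iff_exists.1
        (fun h : I ≤ J => hne (le_antisymm hJI h))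
      haveI : IsDomain (P ⧸ J) := Groth.Agent.CAlgReg.isDomain
      have hx0 : Ideal.Quotient.mk J x ∈ nonZeroDivisors (P ⧸ J) :=
        mem_nonZeroDivisors_of_ne_zero fun h => hxJ (Ideal.Quotient.eq_zero_iff_mem.1 h)
      have h5 := ringKrullDim_quotient_succ_le_of_nonZeroDivisor hx0
      have h6 : ringKrullDim (P ⧸ I) ≤
          ringKrullDim ((P ⧸ J) ⧸ Ideal.span {Ideal.Quotient.mk J x}) := by
        let φ : (P ⧸ J) ⧸ Ideal.span {Ideal.Quotient.mk J x} →+* P ⧸ I :=
          Ideal.Quotient.lift _ (Ideal.Quotient.factor hJI) (fun a ha => by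
            obtain ⟨c, rfl⟩ := Ideal.mem_span_singleton'.1 ha
            rw [map_mul, Ideal.Quotient.factor_mk, Ideal.Quotient.eq_zero_iff_mem.2 hxI, mul_zero])
        refine ringKrullDim_le_of_surjective φ fun z => ?_
        obtain ⟨y, rfl⟩ := Ideal.Quotient.mk_surjective z
        exact ⟨Ideal.Quotient.mk _ (Ideal.Quotient.mk J y), rfl⟩
      have h7 : (((maximalIdeal (P ⧸ I)).spanFinrank + 1 : ℕ) : WithBot ℕ∞) ≤ (t.card : WithBot ℕ∞) := by
        rw [← hdimJ]
        refine le_trans ?_ h5
        push_cast
        rw [← hdI]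
        exact add_le_add h6 le_rfl
      have h8 : (maximalIdeal (P ⧸ I)).spanFinrank + 1 ≤ t.card := by exact_mod_cast h7
      omega
    rintro x ⟨hx, hx2⟩
    rw [← hJeq] at hx
    have hx' : x ∈ Ideal.span ((fun f : maximalIdeal P => (f : P)) '' (s : Set (maximalIdeal P))) := hx
    obtain ⟨a, ha⟩ := (Submodule.mem_span_image_finset_iff_exists_fun' P).1 hx'
    simp only [smul_eq_mul] at ha
    have := coeff_mem s hs a (ha.symm ▸ hx2)
    rw [← ha]
    exact Ideal.sum_mem _ fun f hf => Ideal.mul_mem_mul (this f hf) (hsI f hf)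
  · intro h
    have hIJ' : I ≤ J := by
      refine Submodule.le_of_le_smul_of_le_jacobson_bot (IsNoetherian.noetherian I)
        (le_of_eq (jacobson_eq_maximalIdeal ⊥ bot_ne_top).symm) ?_
      intro x hx
      obtain ⟨a, ha, b, hb, hab⟩ := Submodule.mem_sup.1 (hIJ hx)
      refine Submodule.mem_sup.2 ⟨a, ha, b, ?_, hab⟩
      rw [smul_eq_mul]
      refine h ⟨?_, hb⟩
      have : b = x - a := by linear_combination hab
      rw [this]
      exact sub_mem hx (hJI ha)
    obtain ⟨t, ht, hcard⟩ := Groth.Agent.CAlgReg.exists_extend s hs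
    let s' : Finset P := s.image (↑)
    have hst : Ideal.span (↑s' ∪ ↑t : Set P) = maximalIdeal P := by
      rw [Finset.coe_image]; exact ht
    have hc : s'.card ≤ s.card := Finset.card_image_le
    obtain ⟨hregJ, -, -⟩ := Groth.Agent.CAlgReg.quotient_span hd s' t hst (by omega)
    have hJ' : Ideal.span (s' : Set P) = I := by
      rw [Finset.coe_image]; exact le_antisymm hJI hIJ'
    rwa [hJ'] at hregJ

/-- Injectivity of the base-changed cotangent complex, in terms of `I ∩ m² ⊆ m I`. -/
theorem cotangentComplexBaseChange_injective_iff (k : Type u) (S : Type u) [CommRing k] [CommRing S]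
    [Algebra k P] [Algebra k S] [Algebra P S] [IsScalarTower k P S] [IsLocalRing P] [IsLocalRing S]
    (hs : Function.Surjective (algebraMap P S))
    [Algebra.FormallySmooth k (ResidueField S)] :
    Function.Injective (cotangentComplexBaseChange k S P (ResidueField S)) ↔
      RingHom.ker (algebraMap P S) ⊓ maximalIdeal P ^ 2 ≤
        maximalIdeal P * RingHom.ker (algebraMap P S) := by
  set I := RingHom.ker (algebraMap P S)
  let K := ResidueField S
  have hsK : Function.Surjective (algebraMap P K) := by
    rw [IsScalarTower.algebraMap_eq P S K]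
    exact residue_surjective.comp hs
  have hker : RingHom.ker (algebraMap P K) = maximalIdeal P :=
    eq_maximalIdeal (RingHom.ker_isMaximal_of_surjective _ hsK)
  have hinj := kerCotangentToTensor_injective k P K hsK
  have hIm : I ≤ RingHom.ker (algebraMap P K) := by
    intro x hx
    rw [RingHom.mem_ker, IsScalarTower.algebraMap_apply P S K, RingHom.mem_ker.1 hx, map_zero]
  have hmk : Function.Surjective (fun x : I => (1 : K) ⊗ₜ[P] x) := by
    intro z
    induction z using TensorProduct.induction_on with
    | zero => exact ⟨0, tmul_zero _ _⟩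
    | tmul a b =>
      obtain ⟨r, rfl⟩ := hsK a
      refine ⟨r • b, ?_⟩
      simp only
      rw [← smul_tmul, ← Algebra.algebraMap_eq_smul_one]
    | add z w hz hw =>
      obtain ⟨x, rfl⟩ := hz
      obtain ⟨y, rfl⟩ := hw
      exact ⟨x + y, tmul_add _ _ _⟩
  have hφ : ∀ x : I, cotangentComplexBaseChange k S P K ((1 : K) ⊗ₜ[P] x) = 0 ↔
      (x : P) ∈ maximalIdeal P ^ 2 := by
    intro x
    rw [cotangentComplexBaseChange_tmul, one_smul]
    rw [show kerToTensor k P K ⟨(x : P), hIm x.2⟩ =
      kerCotangentToTensor k P K (Ideal.toCotangent _ ⟨(x : P), hIm x.2⟩) from rfl,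
      ← map_zero (kerCotangentToTensor k P K), hinj.eq_iff, Ideal.toCotangent_eq_zero]
    simp only [hker]
  have hzero : ∀ x : I, (1 : K) ⊗ₜ[P] x = 0 ↔ (x : P) ∈ maximalIdeal P * I := by
    intro x
    constructor
    · intro h
      let e : (P ⧸ RingHom.ker (Algebra.ofId P K)) ≃ₐ[P] K :=
        Ideal.quotientKerAlgEquivOfSurjective (f := Algebra.ofId P K) hsK
      have h1 := congrArg (TensorProduct.map e.symm.toLinearMap (LinearMap.id : I →ₗ[P] I)) h
      rw [map_tmul, map_zero, LinearMap.id_apply, AlgEquiv.toLinearMap_apply, map_one] at h1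
      have h2 := congrArg (TensorProduct.quotTensorEquivQuotSMul I
        (RingHom.ker (Algebra.ofId P K))) h1
      rw [map_zero] at h2
      change (TensorProduct.quotTensorEquivQuotSMul I (RingHom.ker (Algebra.ofId P K)))
        (Ideal.Quotient.mk _ 1 ⊗ₜ x) = 0 at h2
      rw [TensorProduct.quotTensorEquivQuotSMul_mk_tmul, one_smul,
        Submodule.Quotient.mk_eq_zero] at h2
      have h3 := Submodule.mem_map_of_mem (f := Submodule.subtype I) h2
      rw [Submodule.map_smul'', Submodule.map_top, Submodule.range_subtype] at h3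
      have h4 : (x : P) ∈ RingHom.ker (Algebra.ofId P K) • I := h3
      rw [smul_eq_mul] at h4
      change (x : P) ∈ RingHom.ker (algebraMap P K) * I at h4
      rwa [hker] at h4
    · intro h
      suffices ∀ y (hy : y ∈ maximalIdeal P * I), ∃ hy' : y ∈ I, (1 : K) ⊗ₜ[P] (⟨y, hy'⟩ : I) = 0 by
        obtain ⟨_, h'⟩ := this x h
        exact h'
      intro y hy
      induction hy using Submodule.mul_induction_on' with
      | mem_mul_mem r hr z hz =>
        refine ⟨I.mul_mem_left r hz, ?_⟩
        rw [← hker, RingHom.mem_ker] at hr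
        rw [show (⟨r * z, I.mul_mem_left r hz⟩ : I) = r • (⟨z, hz⟩ : I) from rfl, ← smul_tmul,
          ← Algebra.algebraMap_eq_smul_one, hr, zero_tmul]
      | add y hy z hz h1 h2 =>
        obtain ⟨hy', h1⟩ := h1
        obtain ⟨hz', h2⟩ := h2
        refine ⟨add_mem hy' hz', ?_⟩
        rw [show (⟨y + z, add_mem hy' hz'⟩ : I) = (⟨y, hy'⟩ : I) + ⟨z, hz'⟩ from rfl, tmul_add, h1,
          h2, add_zero]
  rw [injective_iff_map_eq_zero]
  constructor
  · rintro h y ⟨hy, hy2⟩
    exact (hzero ⟨y, hy⟩).1 (h _ ((hφ ⟨y, hy⟩).2 hy2))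
  · intro h z hz
    obtain ⟨x, rfl⟩ := hmk z
    exact (hzero x).2 (h ⟨x.2, (hφ x).1 hz⟩)

/-- Jacobian criterion: a quotient `S` of a regular local formally smooth algebra `P` with free
differentials, whose residue field is formally smooth, is formally smooth iff it is regular. -/
theorem formallySmooth_iff_isRegularLocalRing (k P S : Type u) [CommRing k] [CommRing P] [CommRing S]
    [Algebra k P] [Algebra k S] [Algebra P S] [IsScalarTower k P S] [IsRegularLocalRing P]
    [IsLocalRing S] [Algebra.FormallySmooth k P] [Module.Free P (KaehlerDifferential k P)]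
    [Module.Finite P (KaehlerDifferential k P)]
    [Algebra.FormallySmooth k (ResidueField S)] (hs : Function.Surjective (algebraMap P S)) :
    Algebra.FormallySmooth k S ↔ IsRegularLocalRing S := by
  rw [Algebra.FormallySmooth.iff_injective_cotangentComplexBaseChange_residueField P hs
      (IsNoetherian.noetherian _),
    cotangentComplexBaseChange_injective_iff k S hs,
    ← isRegularLocalRing_quotient_iff _ (le_maximalIdeal (RingHom.ker_ne_top _))]
  exact ⟨fun _ => IsRegularLocalRing.of_ringEquiv (RingHom.quotientKerEquivOfSurjective hs),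
    fun _ => IsRegularLocalRing.of_ringEquiv (RingHom.quotientKerEquivOfSurjective hs).symm⟩

end Groth.Agent.CAlgJac
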