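import Mathlib
import Groth.Agent.CAlgJac.Basic
import Groth.Agent.FSAdic.Discrete
import Groth.Agent.PBasis.Separable

/-!
# Formally smooth essentially of finite type local algebras over a field
-/

set_option autoImplicit false
universe u

open TensorProduct IsLocalRing KaehlerDifferential

namespace Groth.Agent.CAlgJac

/-- For a local algebra essentially of finite type over a field with formally smooth residue field,
formally smooth is the same as regular. -/
theorem formallySmooth_iff_isRegularLocalRing_of_essFiniteType (k S : Type u) [Field k] [CommRing S]
    [Algebra k S] [IsLocalRing S] [Algebra.EssFiniteType k S]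
    [Algebra.FormallySmooth k (ResidueField S)] :
    Algebra.FormallySmooth k S ↔ IsRegularLocalRing S := by
  obtain ⟨n, q, hq, φ, hφ⟩ := Groth.Agent.FSAdicDiscrete.exists_presentation k S
  let P := Localization.AtPrime q
  letI : Algebra P S := φ.toRingHom.toAlgebra
  haveI : IsScalarTower k P S := IsScalarTower.of_algebraMap_eq fun x => (φ.commutes x).symm
  haveI : Algebra.FormallyEtale (MvPolynomial (Fin n) k) P :=
    Algebra.FormallyEtale.of_isLocalization q.primeCompl
  haveI : Algebra.FormallySmooth k P :=
    Algebra.FormallySmooth.comp k (MvPolynomial (Fin n) k) P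
  haveI : IsNoetherianRing P := IsLocalization.isNoetherianRing q.primeCompl _ inferInstance
  haveI : Module.Free P (KaehlerDifferential k P) := Module.free_of_flat_of_isLocalRing
  haveI : IsRegularLocalRing P := IsRegularRing.isRegularLocalRing_localization q
  exact formallySmooth_iff_isRegularLocalRing k P S hφ

/-- `m/m² → κ ⊗ Ω` as a `κ`-linear map, with its injectivity and the surjectivity criterion. -/
theorem exists_cotangentMap (k B : Type u) [CommRing k] [CommRing B] [IsLocalRing B] [Algebra k B]
    [Algebra.FormallySmooth k (ResidueField B)] :
    ∃ f : CotangentSpace B →ₗ[ResidueField B] ResidueField B ⊗[B] Ω[B⁄k],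
      Function.Injective f ∧
        (Subsingleton Ω[ResidueField B⁄k] → Function.Surjective f) := by
  have hs : Function.Surjective (algebraMap B (ResidueField B)) := residue_surjective
  suffices ∀ J : Ideal B, RingHom.ker (algebraMap B (ResidueField B)) = J →
      ∃ f : J.Cotangent →ₗ[B] ResidueField B ⊗[B] Ω[B⁄k],
        Function.Injective f ∧ (Subsingleton Ω[ResidueField B⁄k] → Function.Surjective f) by
    obtain ⟨f, hf, hf'⟩ := this (maximalIdeal B)
      (eq_maximalIdeal (RingHom.ker_isMaximal_of_surjective _ hs))
    exact ⟨f.extendScalarsOfSurjective hs, hf, hf'⟩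
  rintro J rfl
  refine ⟨kerCotangentToTensor k B (ResidueField B),
    kerCotangentToTensor_injective k B (ResidueField B) hs, fun _ y => ?_⟩
  exact (exact_kerCotangentToTensor_mapBaseChange k B (ResidueField B) hs y).1
    (Subsingleton.elim _ _)

theorem finrank_tensor_of_free (B : Type u) [CommRing B] [IsLocalRing B] (M : Type u)
    [AddCommGroup M] [Module B M] [Module.Free B M] :
    Module.finrank (ResidueField B) (ResidueField B ⊗[B] M) = Module.finrank B M :=
  Module.finrank_baseChange

end Groth.Agent.CAlgJac
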